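import Mathlib
import Cfsg.Agent.LieClassical.OrthForms
import Cfsg.Agent.LieClassical.OrthCore

/-!
# S4933: two elements of order three in `O₈⁺(F)` (helper67)

`exists_tw` : `t`, `w` of order three in the isometry group of `plusForm 4 F` (`3 ≠ 0` in `F` finite): `t` moves a plane,
`w` permutes three commuting conjugates of `t`.
-/

set_option autoImplicit false

namespace Cfsg.Agent.H67.HT.O8tw

open Cfsg.Agent.LieClassical.OrthForms Cfsg.Agent.LieClassical.OrthCore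

variable {F : Type*} [Field F]

/-- the norm form -/
def N (z : F × F) : F := z.1 ^ 2 - z.1 * z.2 + z.2 ^ 2

/-- the multiplication by the cube root of unity -/
def zt : (F × F) ≃ₗ[F] (F × F) where
  toFun z := (-z.2, z.1 - z.2)
  map_add' a b := by
    ext
    · show -(a.2 + b.2) = -a.2 + -b.2
      ring
    · show a.1 + b.1 - (a.2 + b.2) = a.1 - a.2 + (b.1 - b.2)
      ring
  map_smul' c a := by
    ext
    · show -(c * a.2) = c * -a.2
      ring
    · show c * a.1 - c * a.2 = c * (a.1 - a.2)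
      ring
  invFun z := (z.2 - z.1, -z.1)
  left_inv z := by
    ext
    · show z.1 - z.2 - -z.2 = z.1
      ring
    · show - -z.2 = z.2
      ring
  right_inv z := by
    ext
    · show - -z.1 = z.1
      ring
    · show z.2 - z.1 - -z.1 = z.2
      ring

theorem zt_apply (z : F × F) : zt z = (-z.2, z.1 - z.2) := rfl

theorem N_zt (z : F × F) : N (zt z) = N z := by
  rw [zt_apply, N, N]
  ring

theorem zt_three (z : F × F) : zt (zt (zt z)) = z := by
  rw [zt_apply, zt_apply, zt_apply]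
  ext
  · show -(-z.2 - (z.1 - z.2)) = z.1
    ring
  · show -(z.1 - z.2) - (-z.2 - (z.1 - z.2)) = z.2
    ring

/-- an element of norm `-1` -/
theorem exists_c (F : Type*) [Field F] [Fintype F] (h3 : (3 : F) ≠ 0) : ∃ c : F × F, N c = -1 := by
  by_cases h2 : (2 : F) = 0
  · refine ⟨(1, 0), ?_⟩
    have h4 : (1 : F) = -1 := by linear_combination h2
    simp only [N]
    rw [← h4]
    ring
  · have hodd : Fintype.card F % 2 = 1 := by
      refine FiniteField.odd_card_of_char_ne_two fun h => h2 ?_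
      have h4 := ringChar.Nat.cast_ringChar (R := F)
      rw [h] at h4
      exact_mod_cast h4
    have h4 : (4 : F) ≠ 0 := by
      have : (4 : F) = 2 * 2 := by norm_num
      rw [this]
      exact mul_ne_zero h2 h2
    have h34 : (3 / 4 : F) ≠ 0 := div_ne_zero h3 h4
    obtain ⟨a, b, h⟩ := FiniteField.exists_root_sum_quadratic
      (Polynomial.degree_quadratic (a := (1 : F)) (b := 0) (c := 0) one_ne_zero)
      (Polynomial.degree_quadratic (a := (3 / 4 : F)) (b := 0) (c := 1) h34) hodd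
    simp only [Polynomial.eval_add, Polynomial.eval_mul, Polynomial.eval_C, Polynomial.eval_pow,
      Polynomial.eval_X] at h
    refine ⟨(a + b / 2, b), ?_⟩
    simp only [N]
    field_simp
    field_simp at h
    linear_combination h

section tq

/-- the elements `t_k` -/
def tq (k : Fin 4) : (Fin 4 → F × F) ≃ₗ[F] (Fin 4 → F × F) where
  toFun z i := if i = k then zt (z i) else z i
  map_add' a b := by
    funext i
    show (if i = k then zt (a i + b i) else a i + b i) = (if i = k then zt (a i) else a i) + (if i = k then zt (b i) else b i)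
    split_ifs
    · rw [map_add]
    · rfl
  map_smul' c a := by
    funext i
    show (if i = k then zt (c • a i) else c • a i) = c • (if i = k then zt (a i) else a i)
    split_ifs
    · rw [map_smul]
    · rfl
  invFun z i := if i = k then zt.symm (z i) else z i
  left_inv z := by
    funext i
    show (if i = k then zt.symm (if i = k then zt (z i) else z i) else (if i = k then zt (z i) else z i)) = z i
    split_ifs
    · exact zt.symm_apply_apply _
    · rfl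
  right_inv z := by
    funext i
    show (if i = k then zt (if i = k then zt.symm (z i) else z i) else (if i = k then zt.symm (z i) else z i)) = z i
    split_ifs
    · exact zt.apply_symm_apply _
    · rfl

theorem tq_apply (k : Fin 4) (z : Fin 4 → F × F) (i : Fin 4) : tq k z i = if i = k then zt (z i) else z i := rfl

/-- the permutation -/
def sg : Equiv.Perm (Fin 4) := ⟨![2, 0, 1, 3], ![1, 2, 0, 3], by decide, by decide⟩

/-- the element `w` -/
def wq : (Fin 4 → F × F) ≃ₗ[F] (Fin 4 → F × F) := LinearEquiv.funCongrLeft F (F × F) sg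

theorem wq_apply (z : Fin 4 → F × F) (i : Fin 4) : wq z i = z (sg i) := rfl

theorem wq_conj (k : Fin 4) : (wq : (Fin 4 → F × F) ≃ₗ[F] (Fin 4 → F × F)) * tq k * wq⁻¹ = tq (sg.symm k) := by
  rw [mul_inv_eq_iff_eq_mul]
  refine LinearEquiv.ext fun z => funext fun i => ?_
  show wq (tq k z) i = tq (sg.symm k) (wq z) i
  rw [wq_apply, tq_apply, tq_apply, wq_apply]
  have h : sg i = k ↔ i = sg.symm k := (Equiv.eq_symm_apply sg).symm
  by_cases h1 : sg i = k
  · rw [if_pos h1, if_pos (h.1 h1)]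
  · rw [if_neg h1, if_neg fun h2 => h1 (h.2 h2)]

theorem tq_comm {j k : Fin 4} : (tq j : (Fin 4 → F × F) ≃ₗ[F] (Fin 4 → F × F)) * tq k = tq k * tq j := by
  refine LinearEquiv.ext fun z => funext fun i => ?_
  show tq j (tq k z) i = tq k (tq j z) i
  rw [tq_apply, tq_apply, tq_apply, tq_apply]
  split_ifs <;> rfl

theorem tq_three (k : Fin 4) : (tq k : (Fin 4 → F × F) ≃ₗ[F] (Fin 4 → F × F)) ^ 3 = 1 := by
  refine LinearEquiv.ext fun z => funext fun i => ?_
  show tq k (tq k (tq k z)) i = z i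
  rw [tq_apply, tq_apply, tq_apply]
  split_ifs
  · exact zt_three _
  · rfl

theorem wq_three : (wq : (Fin 4 → F × F) ≃ₗ[F] (Fin 4 → F × F)) ^ 3 = 1 := by
  refine LinearEquiv.ext fun z => funext fun i => ?_
  show wq (wq (wq z)) i = z i
  rw [wq_apply, wq_apply, wq_apply]
  have h : ∀ i : Fin 4, sg (sg (sg i)) = i := by decide
  rw [h]

/-- the form -/
def Qn (z : Fin 4 → F × F) : F := ∑ i, N (z i)

theorem Qn_tq (k : Fin 4) (z : Fin 4 → F × F) : Qn (tq k z) = Qn z := by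
  refine Finset.sum_congr rfl fun i _ => ?_
  rw [tq_apply]
  split_ifs
  · exact N_zt _
  · rfl

theorem Qn_wq (z : Fin 4 → F × F) : Qn (wq z) = Qn z := by
  show ∑ i, N (wq z i) = ∑ i, N (z i)
  simp only [wq_apply]
  exact Equiv.sum_comp sg fun i => N (z i)

end tq

section iso

variable (c : F × F) (i3 : F)

/-- first half -/
def fu (p r : F × F) : F × F := (i3 * (p.1 + p.2) + r.1, i3 * p.2 + r.2)

/-- second half -/
def fv (p r : F × F) : F × F :=
  (c.1 * (i3 * (p.1 + p.2) - r.2) - c.2 * (i3 * p.2 + r.1 - r.2),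
    c.1 * (i3 * p.2 + r.1 - r.2) + c.2 * (i3 * (p.1 + p.2) - r.2) - c.2 * (i3 * p.2 + r.1 - r.2))

theorem N_add {c : F × F} {i3 : F} (hc : N c = -1) (h3 : 3 * i3 = 1) (p r : F × F) :
    N (fu i3 p r) + N (fv c i3 p r) = p.1 * r.1 + p.2 * r.2 := by
  rw [N] at hc
  simp only [N, fu, fv]
  linear_combination (p.1 * r.1 + p.2 * r.2) * h3 + ((i3 * (p.1 + p.2) - r.2) ^ 2 -
    (i3 * (p.1 + p.2) - r.2) * (i3 * p.2 + r.1 - r.2) + (i3 * p.2 + r.1 - r.2) ^ 2) * hc

/-- the map -/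
def Th : (Fin 4 ⊕ Fin 4 → F) →ₗ[F] (Fin 4 → F × F) where
  toFun v := ![fu i3 (v (.inl 0), v (.inl 1)) (v (.inr 0), v (.inr 1)),
    fv c i3 (v (.inl 0), v (.inl 1)) (v (.inr 0), v (.inr 1)),
    fu i3 (v (.inl 2), v (.inl 3)) (v (.inr 2), v (.inr 3)),
    fv c i3 (v (.inl 2), v (.inl 3)) (v (.inr 2), v (.inr 3))]
  map_add' a b := by
    funext i
    fin_cases i <;> ext <;> simp [fu, fv] <;> ring
  map_smul' a b := by
    funext i
    fin_cases i <;> ext <;> simp [fu, fv] <;> ring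

theorem Qn_Th {c : F × F} {i3 : F} (hc : N c = -1) (h3 : 3 * i3 = 1) (v : Fin 4 ⊕ Fin 4 → F) :
    Qn (Th c i3 v) = plusForm 4 F v := by
  have h1 : Qn (Th c i3 v) = (N (fu i3 (v (.inl 0), v (.inl 1)) (v (.inr 0), v (.inr 1))) +
      N (fv c i3 (v (.inl 0), v (.inl 1)) (v (.inr 0), v (.inr 1)))) +
      (N (fu i3 (v (.inl 2), v (.inl 3)) (v (.inr 2), v (.inr 3))) +
      N (fv c i3 (v (.inl 2), v (.inl 3)) (v (.inr 2), v (.inr 3)))) := by
    unfold Qn
    rw [Fin.sum_univ_four]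
    show N (fu i3 (v (.inl 0), v (.inl 1)) (v (.inr 0), v (.inr 1))) +
      N (fv c i3 (v (.inl 0), v (.inl 1)) (v (.inr 0), v (.inr 1))) +
      N (fu i3 (v (.inl 2), v (.inl 3)) (v (.inr 2), v (.inr 3))) +
      N (fv c i3 (v (.inl 2), v (.inl 3)) (v (.inr 2), v (.inr 3))) = _
    ring
  rw [h1, N_add hc h3, N_add hc h3]
  have h2 : plusForm 4 F v = ∑ i : Fin 4, v (.inl i) * v (.inr i) := by
    have h3 := congrFun (coe_plusForm (m := 4) (F := F)) v
    rw [h3]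
    rfl
  rw [h2, Fin.sum_univ_four]
  ring

theorem Th_inj {c : F × F} {i3 : F} (hc : N c = -1) (h3 : 3 * i3 = 1) : Function.Injective (Th c i3) := by
  rw [injective_iff_map_eq_zero]
  intro v hv
  have h1 : ∀ w, QuadraticMap.polar (plusForm 4 F) v w = 0 := by
    intro w
    show plusForm 4 F (v + w) - plusForm 4 F v - plusForm 4 F w = 0
    rw [← Qn_Th hc h3, ← Qn_Th hc h3, ← Qn_Th hc h3, map_add, hv, zero_add]
    have h2 : Qn (0 : Fin 4 → F × F) = 0 := by simp [Qn, N]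
    rw [h2]
    ring
  funext i
  rcases i with i | i
  · have h2 := h1 (Pi.single (.inr i) 1)
    rw [polar_plusForm, Finset.sum_eq_single i] at h2
    · simpa using h2
    · intro j _ hj
      simp [hj]
    · simp
  · have h2 := h1 (Pi.single (.inl i) 1)
    rw [polar_plusForm, Finset.sum_eq_single i] at h2
    · simpa using h2
    · intro j _ hj
      simp [hj]
    · simp

end iso

section fin

variable {V : Type*} [AddCommGroup V] [Module F V]

/-- transport of automorphisms -/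
def cj (e : V ≃ₗ[F] (Fin 4 → F × F)) : ((Fin 4 → F × F) ≃ₗ[F] (Fin 4 → F × F)) →* (V ≃ₗ[F] V) :=
  MonoidHom.mk' (fun f => (e.trans f).trans e.symm) fun f g => LinearEquiv.ext fun v => by
    show e.symm (f (g (e v))) = e.symm (f (e (e.symm (g (e v)))))
    rw [LinearEquiv.apply_symm_apply]

theorem cj_apply (e : V ≃ₗ[F] (Fin 4 → F × F)) (f : (Fin 4 → F × F) ≃ₗ[F] (Fin 4 → F × F)) (v : V) :
    cj e f v = e.symm (f (e v)) := rfl

theorem cj_inj (e : V ≃ₗ[F] (Fin 4 → F × F)) : Function.Injective (cj e) := by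
  intro f g h
  refine LinearEquiv.ext fun z => ?_
  have h1 := congrArg (fun k : V ≃ₗ[F] V => k (e.symm z)) h
  simp only [cj_apply, LinearEquiv.apply_symm_apply] at h1
  exact e.symm.injective h1

theorem noncomm : (wq : (Fin 4 → F × F) ≃ₗ[F] (Fin 4 → F × F)) * ((tq 0)⁻¹ * (wq * tq 0 * wq⁻¹)) * wq⁻¹ ≠
    (tq 0)⁻¹ * (wq * tq 0 * wq⁻¹) := by
  intro h
  have e1 : (wq : (Fin 4 → F × F) ≃ₗ[F] (Fin 4 → F × F)) * tq 0 * wq⁻¹ = tq 1 := wq_conj 0
  have e2 : (wq : (Fin 4 → F × F) ≃ₗ[F] (Fin 4 → F × F)) * tq 1 * wq⁻¹ = tq 2 := wq_conj 1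
  have e3 : (wq : (Fin 4 → F × F) ≃ₗ[F] (Fin 4 → F × F)) * ((tq 0)⁻¹ * (wq * tq 0 * wq⁻¹)) * wq⁻¹ =
      (wq * tq 0 * wq⁻¹)⁻¹ * (wq * (wq * tq 0 * wq⁻¹) * wq⁻¹) := by group
  rw [e3, e1, e2, inv_mul_eq_iff_eq_mul] at h
  have h1 := congrArg (fun k : (Fin 4 → F × F) ≃ₗ[F] (Fin 4 → F × F) => (k (Pi.single 2 (1, 0)) 2)) h
  have h2 : (tq 1 * ((tq 0)⁻¹ * tq 1) : (Fin 4 → F × F) ≃ₗ[F] (Fin 4 → F × F)) (Pi.single 2 (1, 0)) 2 = (1, 0) := by
    show tq 1 ((tq 0).symm (tq 1 (Pi.single 2 (1, 0)))) 2 = (1, 0)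
    have h3 : ∀ z : Fin 4 → F × F, tq 1 z 2 = z 2 := fun z => rfl
    have h4 : ∀ z : Fin 4 → F × F, (tq 0).symm z 2 = z 2 := fun z => rfl
    rw [h3, h4, h3, Pi.single_eq_same]
  have h5 : (tq 2 : (Fin 4 → F × F) ≃ₗ[F] (Fin 4 → F × F)) (Pi.single 2 (1, 0)) 2 = (0, 1) := by
    rw [tq_apply, if_pos rfl, Pi.single_eq_same, zt_apply]
    ext <;> simp
  have h6 : ((0, 1) : F × F) = (1, 0) := h5.symm.trans (h1.trans h2)
  exact zero_ne_one (congrArg Prod.fst h6)

/-- **The two elements.** -/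
theorem exists_tw (F : Type*) [Field F] [Fintype F] (h3 : (3 : F) ≠ 0) :
    ∃ t w : (Fin 4 ⊕ Fin 4 → F) ≃ₗ[F] (Fin 4 ⊕ Fin 4 → F), t ∈ O (plusForm 4 F) ∧ w ∈ O (plusForm 4 F) ∧
      t ^ 3 = 1 ∧ t ≠ 1 ∧ w ^ 3 = 1 ∧ t * (w * t * w⁻¹) = (w * t * w⁻¹) * t ∧
      t * (w * (w * t * w⁻¹) * w⁻¹) = (w * (w * t * w⁻¹) * w⁻¹) * t ∧
      w * (t⁻¹ * (w * t * w⁻¹)) * w⁻¹ ≠ t⁻¹ * (w * t * w⁻¹) ∧
      ∃ d₁ d₂ : Fin 4 ⊕ Fin 4 → F, (∀ v, ∃ a b : F, t v = v + a • d₁ + b • d₂) ∧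
        ∃ e₁ e₂ : Fin 4 ⊕ Fin 4 → F, t e₁ - e₁ = d₁ ∧ t e₂ - e₂ = d₂ := by
  obtain ⟨c, hc⟩ := exists_c F h3
  have hi : 3 * (3 : F)⁻¹ = 1 := mul_inv_cancel₀ h3
  have hfr : Module.finrank F (Fin 4 → F × F) = 8 := by
    rw [Module.finrank_pi_fintype]
    simp
  let e : (Fin 4 ⊕ Fin 4 → F) ≃ₗ[F] (Fin 4 → F × F) :=
    (Th c (3 : F)⁻¹).linearEquivOfInjective (Th_inj hc hi) (by rw [hfr]; simp)
  have he : ∀ v, Qn (e v) = plusForm 4 F v := fun v => Qn_Th hc hi v
  have hO : ∀ f : (Fin 4 → F × F) ≃ₗ[F] (Fin 4 → F × F), (∀ z, Qn (f z) = Qn z) → cj e f ∈ O (plusForm 4 F) := by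
    intro f hf
    rw [mem_O]
    intro v
    rw [cj_apply, ← he, LinearEquiv.apply_symm_apply, hf, he]
  have e1 : (wq : (Fin 4 → F × F) ≃ₗ[F] (Fin 4 → F × F)) * tq 0 * wq⁻¹ = tq 1 := wq_conj 0
  have e2 : (wq : (Fin 4 → F × F) ≃ₗ[F] (Fin 4 → F × F)) * tq 1 * wq⁻¹ = tq 2 := wq_conj 1
  have f1 : cj e wq * cj e (tq 0) * (cj e wq)⁻¹ = cj e (tq 1) := by rw [← map_mul, ← map_inv, ← map_mul, e1]
  have f2 : cj e wq * cj e (tq 1) * (cj e wq)⁻¹ = cj e (tq 2) := by rw [← map_mul, ← map_inv, ← map_mul, e2]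
  refine ⟨cj e (tq 0), cj e wq, hO _ (Qn_tq 0), hO _ Qn_wq, ?_, ?_, ?_, ?_, ?_, ?_, ?_⟩
  · rw [← map_pow, tq_three, map_one]
  · intro h
    rw [← map_one (cj e)] at h
    have h1 := congrArg (fun k : (Fin 4 → F × F) ≃ₗ[F] (Fin 4 → F × F) => (k (Pi.single 0 (1, 0)) 0)) (cj_inj e h)
    have h2 : (tq 0 : (Fin 4 → F × F) ≃ₗ[F] (Fin 4 → F × F)) (Pi.single 0 (1, 0)) 0 = (0, 1) := by
      rw [tq_apply, if_pos rfl, Pi.single_eq_same, zt_apply]
      ext <;> simp
    have h4 : ((0, 1) : F × F) = (1, 0) := by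
      refine h2.symm.trans (h1.trans ?_)
      show (Pi.single (0 : Fin 4) ((1, 0) : F × F) : Fin 4 → F × F) 0 = (1, 0)
      rw [Pi.single_eq_same]
    exact zero_ne_one (congrArg Prod.fst h4)
  · rw [← map_pow, wq_three, map_one]
  · rw [f1, ← map_mul, ← map_mul, tq_comm]
  · rw [f1, f2, ← map_mul, ← map_mul, tq_comm]
  · intro h
    apply noncomm (F := F)
    apply cj_inj e
    simp only [map_mul, map_inv]
    exact h
  · let z₁ : Fin 4 → F × F := Pi.single 0 (1, 0)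
    let z₂ : Fin 4 → F × F := Pi.single 0 (0, 1)
    refine ⟨cj e (tq 0) (e.symm z₁) - e.symm z₁, cj e (tq 0) (e.symm z₂) - e.symm z₂, fun v => ?_,
      e.symm z₁, e.symm z₂, rfl, rfl⟩
    refine ⟨(e v 0).1, (e v 0).2, ?_⟩
    apply e.injective
    simp only [cj_apply, map_add, map_sub, map_smul, LinearEquiv.apply_symm_apply]
    generalize e v = z
    funext i
    show tq 0 z i = z i + (z 0).1 • (tq 0 z₁ i - z₁ i) + (z 0).2 • (tq 0 z₂ i - z₂ i)
    by_cases hi0 : i = 0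
    · subst hi0
      rw [tq_apply, tq_apply, tq_apply, if_pos rfl, if_pos rfl, if_pos rfl]
      have k1 : z₁ 0 = (1, 0) := Pi.single_eq_same _ _
      have k2 : z₂ 0 = (0, 1) := Pi.single_eq_same _ _
      rw [k1, k2, zt_apply, zt_apply, zt_apply]
      ext
      · show -(z 0).2 = (z 0).1 + (z 0).1 * (-0 - 1) + (z 0).2 * (-1 - 0)
        ring
      · show (z 0).1 - (z 0).2 = (z 0).2 + (z 0).1 * (1 - 0 - 0) + (z 0).2 * (0 - 1 - 1)
        ring
    · rw [tq_apply, tq_apply, tq_apply, if_neg hi0, if_neg hi0, if_neg hi0]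
      simp

end fin

end Cfsg.Agent.H67.HT.O8tw
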